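import Groth.Agent.PrincBundLib.Descent
import Groth.Prelude.Def_AlgSt5
import Groth.Prelude.Def_ActBC

/-! The fibre of a classifying stack over `T = (S' ⟶ S)` and torsors under the base-changed group. -/

set_option autoImplicit false
set_option backward.isDefEq.respectTransparency false
set_option backward.isDefEq.respectTransparency.types false
universe u
open CategoryTheory CategoryTheory.Limits AlgebraicGeometry
open MonoidalCategory CartesianMonoidalCategory
attribute [local instance] Hom.monoid Hom.group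

noncomputable section

namespace Groth.Agent.FinTorsLib

variable {S S' : Scheme.{u}} (f : S' ⟶ S) {G : Over S} [GrpObj G] {X Y : Over S'}

/-- The point over which we work. -/
abbrev Tf : Over S := Over.mk f

/-- The structure morphism to the point. -/
def toT (X : Over S') : (Over.map f).obj X ⟶ Tf f := Over.homMk X.hom

/-- The identification of points. -/
abbrev he (U : Over S') (Z : Over S) := (Over.mapPullbackAdj f).homEquiv U Z

variable {f}

theorem map_toT (φ : X ⟶ Y) : (Over.map f).map φ ≫ toT f Y = toT f X :=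
  Over.OverMorphism.ext (Over.w φ)

theorem exists_map {U : Over S'} (t : (Over.map f).obj U ⟶ (Over.map f).obj X)
    (ht : t ≫ toT f X = toT f U) : ∃ φ : U ⟶ X, (Over.map f).map φ = t :=
  ⟨Over.homMk t.left (congrArg CommaMorphism.left ht), Over.OverMorphism.ext rfl⟩

theorem map_inj {φ ψ : X ⟶ Y} (h : (Over.map f).map φ = (Over.map f).map ψ) : φ = ψ :=
  Over.OverMorphism.ext (congrArg (fun t : (Over.map f).obj X ⟶ (Over.map f).obj Y => t.left) h :)

theorem he_comp {U V : Over S'} {Z : Over S} (φ : V ⟶ U) (g : (Over.map f).obj U ⟶ Z) :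
    φ ≫ he f U Z g = he f V Z ((Over.map f).map φ ≫ g) :=
  ((Over.mapPullbackAdj f).homEquiv_naturality_left φ g).symm

/-- A test object over `T` comes from `S'`. -/
def overT {R : Over S} (t : R ⟶ Tf f) : R ≅ (Over.map f).obj (Over.mk t.left) :=
  Over.isoMk (Iso.refl _) (by
    show 𝟙 _ ≫ t.left ≫ f = R.hom
    rw [Category.id_comp]
    exact Over.w t)

theorem overT_toT {R : Over S} (t : R ⟶ Tf f) : (overT t).hom ≫ toT f _ = t :=
  Over.OverMorphism.ext (Category.id_comp _)

theorem ext_tensor {Z : Over S} {h h' : G ⊗ (Over.map f).obj X ⟶ Z}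
    (H : ∀ (U : Over S') (g : (Over.map f).obj U ⟶ G) (x : U ⟶ X),
      lift g ((Over.map f).map x) ≫ h = lift g ((Over.map f).map x) ≫ h') : h = h' := by
  let e := overT (snd G _ ≫ toT f X)
  obtain ⟨x, hx⟩ := exists_map (e.inv ≫ snd G _) (by
    rw [Category.assoc, Iso.inv_comp_eq]; exact (overT_toT _).symm)
  have := H _ (e.inv ≫ fst G _) x
  rw [hx, ← comp_lift, lift_fst_snd, Category.comp_id] at this
  exact (cancel_epi e.inv).1 this

/-- An action of `G` over `T`, read as an action of the base-changed group. -/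
def toBC (m : G ⊗ (Over.map f).obj X ⟶ (Over.map f).obj X) (hm : m ≫ toT f X = snd _ _ ≫ toT f X) :
    Red.bc f G ⊗ X ⟶ X :=
  Over.homMk (lift ((he f _ G).symm (fst _ _)) ((Over.map f).map (snd (Red.bc f G) X)) ≫ m).left (by
    refine (congrArg CommaMorphism.left (?_ : (lift ((he f _ G).symm (fst _ _))
      ((Over.map f).map (snd (Red.bc f G) X)) ≫ m) ≫ toT f X = toT f _) :)
    rw [Category.assoc, hm, lift_snd_assoc, map_toT])

theorem map_lift_toBC (m : G ⊗ (Over.map f).obj X ⟶ (Over.map f).obj X) (hm : m ≫ toT f X = snd _ _ ≫ toT f X)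
    {U : Over S'} (g : (Over.map f).obj U ⟶ G) (x : U ⟶ X) :
    (Over.map f).map (lift (he f U G g) x ≫ toBC m hm) = lift g ((Over.map f).map x) ≫ m := by
  rw [Functor.map_comp]
  have h : (Over.map f).map (toBC m hm) =
      lift ((he f _ G).symm (fst _ _)) ((Over.map f).map (snd (Red.bc f G) X)) ≫ m :=
    Over.OverMorphism.ext rfl
  rw [h, comp_lift_assoc, ← Functor.map_comp, lift_snd]
  congr 2
  apply (he f U G).injective
  rw [← he_comp, Equiv.apply_symm_apply, lift_fst]

variable (f) in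
/-- The second projection of `G ⊗ X` over `S'`. -/
def sndT (G : Over S) (X : Over S') : Over.mk (snd G ((Over.map f).obj X) ≫ toT f X).left ⟶ X :=
  Over.homMk (snd G ((Over.map f).obj X)).left rfl

theorem map_sndT : (Over.map f).map (sndT f G X) = (overT (snd G _ ≫ toT f X)).inv ≫ snd G _ :=
  Over.OverMorphism.ext (Category.id_comp _).symm

/-- An action of the base-changed group, read as an action over `T`. -/
def ofBC (a : Red.bc f G ⊗ X ⟶ X) : G ⊗ (Over.map f).obj X ⟶ (Over.map f).obj X :=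
  (overT (snd G _ ≫ toT f X)).hom ≫ (Over.map f).map
    (lift (he f _ G ((overT (snd G _ ≫ toT f X)).inv ≫ fst _ _)) (sndT f G X) ≫ a)

theorem lift_ofBC (a : Red.bc f G ⊗ X ⟶ X) {U : Over S'} (g : (Over.map f).obj U ⟶ G) (x : U ⟶ X) :
    lift g ((Over.map f).map x) ≫ ofBC a = (Over.map f).map (lift (he f U G g) x ≫ a) := by
  let e := overT (snd G _ ≫ toT f X)
  obtain ⟨φ, hφ⟩ := exists_map (X := Over.mk (snd G _ ≫ toT f X).left)
    (lift g ((Over.map f).map x) ≫ e.hom)
    (by rw [Category.assoc, overT_toT, lift_snd_assoc, map_toT])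
  rw [ofBC, ← Category.assoc, ← hφ, ← Functor.map_comp, comp_lift_assoc, he_comp]
  have h1 : (Over.map f).map φ ≫ e.inv = lift g ((Over.map f).map x) := by
    rw [hφ, Category.assoc, Iso.hom_inv_id, Category.comp_id]
  congr 2
  congr 1
  · congr 1
    rw [← Category.assoc, h1, lift_fst]
  · apply map_inj (f := f)
    rw [Functor.map_comp, map_sndT, ← Category.assoc, h1, lift_snd]

theorem he_one {U : Over S'} : he f U G (1 : (Over.map f).obj U ⟶ G) = 1 := by
  have := AlgGrp.Action.homEquiv_mul f (1 : (Over.map f).obj U ⟶ G) 1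
  rw [one_mul] at this
  exact left_eq_mul.mp this

theorem leftUnitor_inv_eq {C : Type*} [Category C] [CartesianMonoidalCategory C] (Z : C) :
    (λ_ Z).inv = lift (toUnit Z) (𝟙 Z) := by
  apply CartesianMonoidalCategory.hom_ext <;> simp

variable (K : Precoverage Scheme.{u})

/-- A point of the classifying stack corresponds to a torsor under the base-changed group. -/
structure Corr (ξ : (AlgSt.BG K G).p.Fiber (Tf f)) (P : NonAbH1.TorsorSch (Red.bc f G) K) where
  e : ξ.1.P ≅ (Over.map f).obj P.X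
  he_π : e.hom ≫ toT f P.X = ξ.1.π ≫ eqToHom ξ.2
  he_act : ∀ {U : Over S'} (g : (Over.map f).obj U ⟶ G) (x : U ⟶ P.X),
    lift g ((Over.map f).map x ≫ e.inv) ≫ ξ.1.act.act ≫ e.hom =
      (Over.map f).map (lift (he f U G g) x ≫ P.act.act)

variable {K}

theorem exists_corr (ξ : (AlgSt.BG K G).p.Fiber (Tf f)) :
    ∃ P : NonAbH1.TorsorSch (Red.bc f G) K, Nonempty (Corr K ξ P) := by
  obtain ⟨⟨B, P, act, π, cart, loc, φ, eqv⟩, hB⟩ := ξ
  have hB' : B = Tf f := hB
  subst hB'
  let X : Over S' := Over.mk π.left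
  let e : P ≅ (Over.map f).obj X := overT π
  have hπ : e.hom ≫ toT f X = π := overT_toT π
  have hπ' : e.inv ≫ π = toT f X := by rw [Iso.inv_comp_eq, hπ]
  let m : G ⊗ (Over.map f).obj X ⟶ (Over.map f).obj X := (G ◁ e.inv) ≫ act.act ≫ e.hom
  have hm : m ≫ toT f X = snd _ _ ≫ toT f X := by
    simp only [m, Category.assoc, hπ, cart.w, whiskerLeft_snd_assoc, hπ']
  have key : ∀ {U : Over S'} (g : (Over.map f).obj U ⟶ G) (x : U ⟶ X),
      (Over.map f).map (lift (he f U G g) x ≫ toBC m hm) =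
        lift g ((Over.map f).map x ≫ e.inv) ≫ act.act ≫ e.hom := fun g x => by
    rw [map_lift_toBC]; simp only [m, lift_whiskerLeft_assoc]
  let a : AlgGrp.Action (Red.bc f G) X :=
    { act := toBC m hm
      one_act := by
        refine (cancel_epi (λ_ X).inv).1 (map_inj (f := f) ?_)
        rw [Iso.inv_hom_id, leftUnitor_inv_eq, lift_whiskerRight_assoc]
        obtain ⟨g, hg⟩ := (he f X G).surjective (toUnit X ≫ MonObj.one (X := Red.bc f G))
        have hg1 : g = 1 := (he f X G).injective (hg.trans he_one.symm)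
        rw [← hg, key, hg1]
        have h := congrArg (fun t => lift (toUnit _) ((Over.map f).map (𝟙 X) ≫ e.inv) ≫ t) act.one_act
        simp only [lift_whiskerRight_assoc, lift_leftUnitor_hom] at h
        rw [Hom.one_def, ← Category.assoc (lift _ _), h, Category.assoc, Iso.inv_hom_id, Category.comp_id]
      mul_act := by
        refine Eq.trans (Category.id_comp _).symm (Eq.trans ?_ (Category.id_comp _))
        rw [show 𝟙 ((Red.bc f G ⊗ Red.bc f G) ⊗ X) = lift (lift (fst _ _ ≫ fst _ _) (fst _ _ ≫ snd _ _)) (snd _ _) from by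
          apply CartesianMonoidalCategory.hom_ext <;> simp]
        generalize fst (Red.bc f G ⊗ Red.bc f G) X ≫ fst (Red.bc f G) (Red.bc f G) = g₁
        generalize fst (Red.bc f G ⊗ Red.bc f G) X ≫ snd (Red.bc f G) (Red.bc f G) = g₂
        generalize snd (Red.bc f G ⊗ Red.bc f G) X = x
        obtain ⟨g₁, rfl⟩ := (he f _ G).surjective g₁
        obtain ⟨g₂, rfl⟩ := (he f _ G).surjective g₂
        simp only [lift_whiskerRight_assoc, lift_lift_associator_hom_assoc, lift_whiskerLeft_assoc]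
        apply map_inj (f := f)
        rw [← Hom.mul_def, ← AlgGrp.Action.homEquiv_mul, key, key, key]
        have h := congrArg (fun t => lift (lift g₁ g₂) ((Over.map f).map x ≫ e.inv) ≫ t ≫ e.hom) act.mul_act
        simp only [lift_whiskerRight_assoc, lift_lift_associator_hom_assoc, lift_whiskerLeft_assoc, Category.assoc] at h
        rw [Hom.mul_def]
        simp only [Category.assoc, Iso.hom_inv_id, Category.comp_id]
        exact h }
  have hps : NonAbH1.IsPseudoTorsorSch a := by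
    refine (PrincBundLib.isIso_lift_snd_iff a.act).mpr fun U q p => ?_
    let q₀ := (Over.map f).map q ≫ e.inv
    let p₀ := (Over.map f).map p ≫ e.inv
    have w : q₀ ≫ π = p₀ ≫ π := by simp only [q₀, p₀, Category.assoc, hπ', map_toT]
    let l := cart.lift q₀ p₀ w
    refine ⟨he f U G (l ≫ fst G P), ?_, fun g' hg' => ?_⟩
    · refine map_inj (f := f) ((key (l ≫ fst G P) p).trans ?_)
      have hl : lift (l ≫ fst G P) p₀ = l := by
        apply CartesianMonoidalCategory.hom_ext
        · simp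
        · rw [lift_snd]; exact (cart.lift_snd _ _ w).symm
      rw [show (Over.map f).map p ≫ e.inv = p₀ from rfl, hl, ← Category.assoc, cart.lift_fst]
      simp [q₀]
    · obtain ⟨g₀, rfl⟩ := (he f U G).surjective g'
      congr 1
      have h2 : lift g₀ p₀ ≫ act.act ≫ e.hom = (Over.map f).map q :=
        (key g₀ p).symm.trans (congrArg (Over.map f).map hg')
      have h3 : lift g₀ p₀ = l := cart.hom_ext (by
        rw [cart.lift_fst]
        simp only [q₀]
        rw [← cancel_mono e.hom]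
        simp only [Category.assoc, Iso.inv_hom_id, Category.comp_id]
        exact h2) (by rw [cart.lift_snd, lift_snd])
      rw [← h3, lift_fst]
  exact ⟨⟨X, a, hps, loc⟩, ⟨⟨e, hπ.trans (by simp), fun g x => (key g x).symm⟩⟩⟩

theorem exists_fiber (P : NonAbH1.TorsorSch (Red.bc f G) K) :
    ∃ ξ : (AlgSt.BG K G).p.Fiber (Tf f), Nonempty (Corr K ξ P) := by
  let act : AlgGrp.Action G ((Over.map f).obj P.X) :=
    { act := ofBC P.act.act
      one_act := by
        refine (cancel_epi (λ_ _).inv).1 ?_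
        rw [Iso.inv_hom_id, leftUnitor_inv_eq, lift_whiskerRight_assoc]
        have h := congrArg (fun t => lift (toUnit P.X) (𝟙 P.X) ≫ t) P.act.one_act
        simp only [lift_whiskerRight_assoc, lift_leftUnitor_hom] at h
        have h1 : he f P.X G (1 : (Over.map f).obj P.X ⟶ G) = 1 := he_one
        rw [← Hom.one_def, ← (Over.map f).map_id P.X, lift_ofBC, h1, Hom.one_def]
        exact congrArg (Over.map f).map h
      mul_act := by
        let R := (G ⊗ G) ⊗ (Over.map f).obj P.X
        let e := overT (snd (G ⊗ G) _ ≫ toT f P.X)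
        refine (cancel_epi e.inv).1 ?_
        obtain ⟨x, hx⟩ := exists_map (e.inv ≫ snd _ _) (by
          rw [Category.assoc, Iso.inv_comp_eq]; exact (overT_toT _).symm)
        have hR : e.inv = lift (lift (e.inv ≫ fst _ _ ≫ fst G G) (e.inv ≫ fst _ _ ≫ snd G G)) ((Over.map f).map x) := by
          rw [hx, ← comp_lift, ← comp_lift, ← comp_lift, lift_fst_snd, Category.comp_id, lift_fst_snd, Category.comp_id]
        rw [hR]
        generalize e.inv ≫ fst _ _ ≫ fst G G = g₁
        generalize e.inv ≫ fst _ _ ≫ snd G G = g₂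
        simp only [lift_whiskerRight_assoc, lift_lift_associator_hom_assoc, lift_whiskerLeft_assoc]
        rw [← Hom.mul_def, lift_ofBC, lift_ofBC, lift_ofBC, AlgGrp.Action.homEquiv_mul]
        congr 1
        have h := congrArg (fun t => lift (lift (he f _ G g₁) (he f _ G g₂)) x ≫ t) P.act.mul_act
        simp only [lift_whiskerRight_assoc, lift_lift_associator_hom_assoc, lift_whiskerLeft_assoc] at h
        exact h }
  have hw : act.act ≫ toT f P.X = snd _ _ ≫ toT f P.X := ext_tensor fun U g x => by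
    rw [← Category.assoc, lift_ofBC, map_toT, lift_snd_assoc, map_toT]
  have cart : IsPullback act.act (snd G _) (toT f P.X) (toT f P.X) := by
    refine ⟨⟨hw⟩, ⟨PullbackCone.isLimitAux' _ fun c => ?_⟩⟩
    let e := overT (c.fst ≫ toT f P.X)
    let q' : Over.mk (c.fst ≫ toT f P.X).left ⟶ P.X := Over.homMk c.fst.left rfl
    have hq : (Over.map f).map q' = e.inv ≫ c.fst := Over.OverMorphism.ext (Category.id_comp _).symm
    let p' : Over.mk (c.fst ≫ toT f P.X).left ⟶ P.X :=
      Over.homMk c.snd.left (congrArg CommaMorphism.left c.condition.symm :)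
    have hp : (Over.map f).map p' = e.inv ≫ c.snd := Over.OverMorphism.ext (Category.id_comp _).symm
    have hu := (PrincBundLib.isIso_lift_snd_iff P.act.act).mp P.isTorsor.1 _ q' p'
    let g := (he f _ G).symm hu.choose
    have hg : lift g (e.inv ≫ c.snd) ≫ act.act = e.inv ≫ c.fst := by
      rw [← hp, lift_ofBC, Equiv.apply_symm_apply, hu.choose_spec.1, hq]
    refine ⟨e.hom ≫ lift g (e.inv ≫ c.snd), ?_, ?_, fun {l} h1 h2 => ?_⟩
    · exact (Category.assoc _ _ _).trans ((congrArg (e.hom ≫ ·) hg).trans (Iso.hom_inv_id_assoc _ _))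
    · show (e.hom ≫ lift g (e.inv ≫ c.snd)) ≫ snd G _ = c.snd
      rw [Category.assoc, lift_snd, Iso.hom_inv_id_assoc]
    · suffices H : ∀ l' : c.pt ⟶ G ⊗ (Over.map f).obj P.X, l' ≫ act.act = c.fst → l' ≫ snd G _ = c.snd →
          l' = e.hom ≫ lift g (e.inv ≫ c.snd) from H l h1 h2
      clear h1 h2 l
      intro l h1 h2
      rw [← cancel_epi e.inv, Iso.inv_hom_id_assoc]
      refine CartesianMonoidalCategory.hom_ext _ _ ?_ ?_
      · rw [lift_fst]
        apply (he f _ G).injective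
        rw [Equiv.apply_symm_apply]
        refine hu.choose_spec.2 _ (map_inj (f := f) ?_)
        rw [← lift_ofBC, hp, hq]
        have : lift ((e.inv ≫ l) ≫ fst G _) (e.inv ≫ c.snd) = e.inv ≫ l := by
          apply CartesianMonoidalCategory.hom_ext
          · simp
          · rw [lift_snd, Category.assoc, h2]
        rw [this, Category.assoc, h1]
      · rw [lift_snd, Category.assoc, h2]
  let A : AlgSt.QuotObj K G (AlgSt.trivAction G) :=
    { base := Tf f
      P := (Over.map f).obj P.X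
      act := act
      π := toT f P.X
      cart := cart
      loc := P.isTorsor.2
      φ := toUnit _
      eqv := toUnit_unique _ _ }
  refine ⟨⟨A, rfl⟩, ⟨⟨Iso.refl _, ?_, fun g x => ?_⟩⟩⟩
  · simp [A]
  · simp only [A, act, Iso.refl_inv, Iso.refl_hom]
    erw [Category.comp_id, Category.comp_id]
    exact lift_ofBC _ g x

theorem isIso_top {ξ ω : (AlgSt.BG K G).p.Fiber (Tf f)} (h : ξ ⟶ ω) : IsIso h.1.top := by
  obtain ⟨⟨B, P, act, π, cart, loc, φ, eqv⟩, hB⟩ := ξ
  obtain ⟨⟨B', Q, act', π', cart', loc', φ', eqv'⟩, hB'⟩ := ω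
  have hB₁ : B = Tf f := hB
  have hB₂ : B' = Tf f := hB'
  subst hB₁ hB₂
  obtain ⟨h, hh⟩ := h
  have hb : h.base = 𝟙 (Tf f) := by
    have := IsHomLift.fac' (AlgSt.BG K G).p (𝟙 (Tf f)) h
    simp at this
    exact this
  haveI : IsIso h.base := hb ▸ inferInstance
  exact h.cart.isIso_fst_of_isIso

theorem base_eq {ξ ω : (AlgSt.BG K G).p.Fiber (Tf f)} (h : ξ ⟶ ω) :
    h.1.base = eqToHom ξ.2 ≫ eqToHom ω.2.symm := by
  have h' := h.2
  have := IsHomLift.fac' (AlgSt.BG K G).p (𝟙 (Tf f)) h.1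
  simp at this
  refine this.trans ?_
  exact (eqToHom_trans ξ.2 ω.2.symm).symm

/-- Morphisms of points are equivariant isomorphisms of torsors. -/
theorem nonempty_homEquiv {ξ ω : (AlgSt.BG K G).p.Fiber (Tf f)} {P Q : NonAbH1.TorsorSch (Red.bc f G) K}
    (c : Corr K ξ P) (d : Corr K ω Q) :
    Nonempty ((ξ ⟶ ω) ≃ NonAbH1.EquivIso P.act Q.act) := by
  have hz : ∀ {U : Over S'} (g : (Over.map f).obj U ⟶ G) (x : U ⟶ P.X) (t : ξ.1.P ⟶ ω.1.P) (φ : P.X ⟶ Q.X),
      (Over.map f).map φ = c.e.inv ≫ t ≫ d.e.hom →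
      (lift g ((Over.map f).map x) ≫ (G ◁ c.e.inv) ≫ ξ.1.act.act ≫ t ≫ d.e.hom =
        (Over.map f).map (lift (he f U G g) x ≫ P.act.act ≫ φ)) ∧
      (lift g ((Over.map f).map x) ≫ (G ◁ c.e.inv) ≫ (G ◁ t) ≫ ω.1.act.act ≫ d.e.hom =
        (Over.map f).map (lift (he f U G g) x ≫ (Red.bc f G ◁ φ) ≫ Q.act.act)) := by
    intro U g x t φ hφ
    constructor
    · rw [← Category.assoc (lift (he f U G g) x), Functor.map_comp, ← c.he_act, hφ]
      simp
    · rw [lift_whiskerLeft_assoc, lift_whiskerLeft_assoc, lift_whiskerLeft_assoc, ← d.he_act, Functor.map_comp, hφ]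
      simp
  have toI : ∀ h : ξ ⟶ ω, ∃ e : NonAbH1.EquivIso P.act Q.act,
      (Over.map f).map e.iso.hom = c.e.inv ≫ h.1.top ≫ d.e.hom := by
    intro h
    obtain ⟨φ, hφ⟩ := exists_map (c.e.inv ≫ h.1.top ≫ d.e.hom) (by
      rw [Category.assoc, Category.assoc, d.he_π, ← Category.assoc h.1.top, h.1.cart.w, base_eq h]
      simp only [Category.assoc, eqToHom_trans]
      rw [← c.he_π, Iso.inv_hom_id_assoc])
    haveI := isIso_top h
    haveI : IsIso φ.left := by
      haveI : IsIso ((Over.map f).map φ) := hφ ▸ inferInstance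
      exact inferInstanceAs (IsIso ((Over.forget _).map ((Over.map f).map φ)))
    haveI : IsIso ((Over.forget S').map φ) := ‹IsIso φ.left›
    haveI : IsIso φ := isIso_of_reflects_iso φ (Over.forget S')
    refine ⟨⟨asIso φ, ?_⟩, hφ⟩
    refine Eq.trans (Category.id_comp _).symm (Eq.trans ?_ (Category.id_comp _))
    rw [show 𝟙 (Red.bc f G ⊗ P.X) = lift (fst _ _) (snd _ _) from lift_fst_snd.symm]
    generalize fst (Red.bc f G) P.X = g'
    generalize snd (Red.bc f G) P.X = x
    obtain ⟨g, rfl⟩ := (he f _ G).surjective g'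
    apply map_inj (f := f)
    obtain ⟨h1, h2⟩ := hz g x h.1.top φ hφ
    rw [asIso_hom, ← h1, ← h2, ← Category.assoc ξ.1.act.act, h.1.eqv, Category.assoc]
  have ofI : ∀ e : NonAbH1.EquivIso P.act Q.act, ∃ h : ξ ⟶ ω,
      h.1.top = c.e.hom ≫ (Over.map f).map e.iso.hom ≫ d.e.inv := by
    intro e
    let t : ξ.1.P ⟶ ω.1.P := c.e.hom ≫ (Over.map f).map e.iso.hom ≫ d.e.inv
    have ht : (Over.map f).map e.iso.hom = c.e.inv ≫ t ≫ d.e.hom := by simp [t]
    have heqv : ξ.1.act.act ≫ t = (G ◁ t) ≫ ω.1.act.act := by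
      rw [← cancel_mono d.e.hom, ← cancel_epi (G ◁ c.e.inv)]
      refine ext_tensor fun U g x => ?_
      obtain ⟨h1, h2⟩ := hz g x t e.iso.hom ht
      simp only [Category.assoc]
      rw [h1, h2, e.comm]
    let b : ξ.1.base ⟶ ω.1.base := eqToHom ξ.2 ≫ eqToHom ω.2.symm
    have hw : t ≫ ω.1.π = ξ.1.π ≫ b := by
      rw [← cancel_mono (eqToHom ω.2), Category.assoc, Category.assoc, ← d.he_π]
      simp only [t, b, Category.assoc, Iso.inv_hom_id_assoc, map_toT, eqToHom_trans, eqToHom_refl]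
      rw [c.he_π]
    haveI : IsIso t := inferInstance
    let h : ξ.1 ⟶ ω.1 :=
      { base := b, top := t, eqv := heqv, cart := IsPullback.of_horiz_isIso ⟨hw⟩, wφ := toUnit_unique _ _ }
    refine ⟨⟨h, IsHomLift.of_fac' _ _ _ ξ.2 ω.2 ?_⟩, rfl⟩
    show b = _
    simp [b]
  choose F hF using toI
  refine ⟨Equiv.ofBijective F ⟨fun h h' e => ?_, fun e => ?_⟩⟩
  · have h1 : h.1.top = h'.1.top := by
      have := (hF h).symm.trans ((congrArg (fun e : NonAbH1.EquivIso P.act Q.act => (Over.map f).map e.iso.hom) e).trans (hF h'))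
      simpa using this
    exact Subtype.ext (AlgSt.QuotObj.hom_ext ((base_eq h).trans (base_eq h').symm) h1)
  · obtain ⟨h, hh⟩ := ofI e
    refine ⟨h, ?_⟩
    have h1 : (F h).iso.hom = e.iso.hom := map_inj (f := f) (by rw [hF, hh]; simp)
    obtain ⟨i, hi⟩ := e
    revert h1
    generalize F h = e'
    obtain ⟨i', hi'⟩ := e'
    intro h1
    obtain rfl : i' = i := Iso.ext h1
    rfl

theorem isIso_hom {ξ ω : (AlgSt.BG K G).p.Fiber (Tf f)} (h : ξ ⟶ ω) : IsIso h := by
  obtain ⟨P, ⟨c⟩⟩ := exists_corr ξ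
  obtain ⟨Q, ⟨d⟩⟩ := exists_corr ω
  haveI := isIso_top h
  haveI : IsIso h.1.base := by rw [base_eq h]; infer_instance
  let g : ω.1 ⟶ ξ.1 :=
    { base := inv h.1.base
      top := inv h.1.top
      eqv := by
        rw [IsIso.comp_inv_eq, Category.assoc, h.1.eqv, ← MonoidalCategory.whiskerLeft_comp_assoc, IsIso.inv_hom_id,
          MonoidalCategory.whiskerLeft_id, Category.id_comp]
      cart := IsPullback.of_horiz_isIso ⟨by rw [IsIso.eq_comp_inv, Category.assoc, ← h.1.cart.w, IsIso.inv_hom_id_assoc]⟩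
      wφ := toUnit_unique _ _ }
  refine ⟨⟨g, IsHomLift.of_fac' _ _ _ ω.2 ξ.2 ?_⟩, Subtype.ext (AlgSt.QuotObj.hom_ext ?_ ?_), Subtype.ext (AlgSt.QuotObj.hom_ext ?_ ?_)⟩
  · show inv h.1.base = _
    simp [base_eq h]
  · exact IsIso.hom_inv_id h.1.base
  · exact IsIso.hom_inv_id h.1.top
  · exact IsIso.inv_hom_id h.1.base
  · exact IsIso.inv_hom_id h.1.top

/-- Isomorphism classes of points are classes of torsors. -/
theorem exists_classEquiv :
    ∃ E : Quotient (isIsomorphicSetoid ((AlgSt.BG K G).p.Fiber (Tf f))) ≃ NonAbH1.H1Sch (Red.bc f G) K,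
      ∀ ξ, Nat.card (Aut ξ) = Nat.card (NonAbH1.EquivIso (Quot.out (E ⟦ξ⟧)).act (Quot.out (E ⟦ξ⟧)).act) := by
  have compose : ∀ {P Q R : NonAbH1.TorsorSch (Red.bc f G) K}, NonAbH1.EquivIso P.act Q.act →
      NonAbH1.EquivIso Q.act R.act → Nonempty (NonAbH1.EquivIso P.act R.act) := fun e e' =>
    ⟨⟨e.iso ≪≫ e'.iso, by
      rw [Iso.trans_hom, ← Category.assoc, e.comm, Category.assoc, e'.comm, ← MonoidalCategory.whiskerLeft_comp_assoc]⟩⟩
  have hEq : Equivalence fun P Q : NonAbH1.TorsorSch (Red.bc f G) K => Nonempty (NonAbH1.EquivIso P.act Q.act) :=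
    ⟨fun P => ⟨⟨Iso.refl _, by simp⟩⟩, fun {P Q} ⟨e⟩ => ⟨⟨e.iso.symm, by
      rw [Iso.symm_hom, Iso.comp_inv_eq, Category.assoc, e.comm, ← MonoidalCategory.whiskerLeft_comp_assoc,
        Iso.inv_hom_id, MonoidalCategory.whiskerLeft_id, Category.id_comp]⟩⟩, fun ⟨e⟩ ⟨e'⟩ => compose e e'⟩
  choose Φ hΦ using exists_corr (K := K) (f := f) (G := G)
  have hom_to : ∀ {ξ ω}, (ξ ⟶ ω) → Nonempty (NonAbH1.EquivIso (Φ ξ).act (Φ ω).act) := fun {ξ ω} h =>
    ⟨(nonempty_homEquiv (hΦ ξ).some (hΦ ω).some).some h⟩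
  let F : Quotient (isIsomorphicSetoid ((AlgSt.BG K G).p.Fiber (Tf f))) → NonAbH1.H1Sch (Red.bc f G) K :=
    Quotient.lift (fun ξ => (Φ ξ).cl) fun ξ ω ⟨i⟩ => Quot.sound (hom_to i.hom)
  have hF : Function.Bijective F := by
    refine ⟨fun a b h => ?_, fun c => ?_⟩
    · induction a using Quotient.ind with | _ ξ =>
      induction b using Quotient.ind with | _ ω =>
      obtain ⟨e⟩ := hEq.eqvGen_iff.mp (Quot.eqvGen_exact h)
      have h' := (nonempty_homEquiv (hΦ ξ).some (hΦ ω).some).some.symm e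
      haveI := isIso_hom h'
      exact Quotient.sound ⟨asIso h'⟩
    · obtain ⟨Q, rfl⟩ := Quot.exists_rep c
      obtain ⟨ξ, ⟨d⟩⟩ := exists_fiber Q
      exact ⟨⟦ξ⟧, Quot.sound ⟨(nonempty_homEquiv (hΦ ξ).some d).some (𝟙 ξ)⟩⟩
  refine ⟨Equiv.ofBijective F hF, fun ξ => ?_⟩
  obtain ⟨e⟩ := hEq.eqvGen_iff.mp (Quot.eqvGen_exact
    ((Quot.out_eq (Equiv.ofBijective F hF ⟦ξ⟧)).symm : (Φ ξ).cl = Quot.mk _ (Quot.out (Equiv.ofBijective F hF ⟦ξ⟧))))
  obtain ⟨d⟩ := hΦ ξ
  have hext : ∀ {P Q : NonAbH1.TorsorSch (Red.bc f G) K} {x y : NonAbH1.EquivIso P.act Q.act},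
      x.iso = y.iso → x = y := fun {P Q x y} h => by
    obtain ⟨i, _⟩ := x
    obtain ⟨i', _⟩ := y
    obtain rfl : i = i' := h
    rfl
  refine Nat.card_congr (Equiv.trans ?_ ((nonempty_homEquiv d d).some.trans ?_))
  · exact { toFun := fun a => a.hom, invFun := fun h => haveI := isIso_hom h; asIso h
            left_inv := fun a => Iso.ext rfl, right_inv := fun h => rfl }
  · exact {
      toFun := fun x => ⟨e.iso.symm ≪≫ x.iso ≪≫ e.iso, by
        simp only [Iso.trans_hom, Iso.symm_hom]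
        have h1 : (Quot.out (Equiv.ofBijective F hF ⟦ξ⟧)).act.act ≫ e.iso.inv =
            (_ ◁ e.iso.inv) ≫ (Φ ξ).act.act := by
          rw [Iso.comp_inv_eq, Category.assoc, e.comm, ← MonoidalCategory.whiskerLeft_comp_assoc,
            Iso.inv_hom_id, MonoidalCategory.whiskerLeft_id, Category.id_comp]
        rw [reassoc_of% h1, reassoc_of% x.comm, e.comm]
        simp only [← MonoidalCategory.whiskerLeft_comp_assoc]⟩
      invFun := fun x => ⟨e.iso ≪≫ x.iso ≪≫ e.iso.symm, by
        simp only [Iso.trans_hom, Iso.symm_hom]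
        have h1 : (Quot.out (Equiv.ofBijective F hF ⟦ξ⟧)).act.act ≫ e.iso.inv =
            (_ ◁ e.iso.inv) ≫ (Φ ξ).act.act := by
          rw [Iso.comp_inv_eq, Category.assoc, e.comm, ← MonoidalCategory.whiskerLeft_comp_assoc,
            Iso.inv_hom_id, MonoidalCategory.whiskerLeft_id, Category.id_comp]
        rw [reassoc_of% e.comm, reassoc_of% x.comm, h1]
        simp only [← MonoidalCategory.whiskerLeft_comp_assoc]⟩
      left_inv := fun x => hext (by ext : 1; simp)
      right_inv := fun x => hext (by ext : 1; simp) }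

end Groth.Agent.FinTorsLib
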