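import Groth.Agent.FinTorsLib.Pts
import Groth.Agent.PrincBundLib.Descends
import Groth.Agent.PrincBundLib.Descent
import Groth.Agent.FpqcDesc.Basic
import Mathlib.AlgebraicGeometry.Morphisms.LocalFlatDescent

/-! Torsors under a finite etale group over a finite field. -/

set_option autoImplicit false
set_option backward.isDefEq.respectTransparency false
set_option backward.isDefEq.respectTransparency.types false
universe u
open CategoryTheory CategoryTheory.Limits AlgebraicGeometry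
open MonoidalCategory CartesianMonoidalCategory
open Groth.Agent.FEtLib Groth.Agent.FEtLib.FieldBase
attribute [local instance] Hom.monoid Hom.group

noncomputable section

namespace Groth.Agent.FinTorsLib

local notation "𝔾" k => Groth.Agent.FEtLib.FieldBase.G k

variable {k : Type u} [Field k]

section Action

variable {G X : Over (Spec (CommRingCat.of k))} [GrpObj G] (a : AlgGrp.Action G X)

/-- The action on points. -/
def dot {T : Over (Spec (CommRingCat.of k))} (g : T ⟶ G) (p : T ⟶ X) : T ⟶ X := lift g p ≫ a.act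

theorem dot_one {T : Over (Spec (CommRingCat.of k))} (p : T ⟶ X) : dot a (1 : T ⟶ G) p = p := by
  have h := congrArg (fun m => lift (toUnit T) p ≫ m) a.one_act
  simp only [lift_whiskerRight_assoc, lift_leftUnitor_hom] at h
  exact h

theorem dot_mul {T : Over (Spec (CommRingCat.of k))} (g g' : T ⟶ G) (p : T ⟶ X) :
    dot a (g * g') p = dot a g (dot a g' p) := by
  have h := congrArg (fun m => lift (lift g g') p ≫ m) a.mul_act
  simp only [lift_whiskerRight_assoc, lift_lift_associator_hom_assoc, lift_whiskerLeft_assoc] at h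
  exact h

theorem comp_dot {T T' : Over (Spec (CommRingCat.of k))} (f : T' ⟶ T) (g : T ⟶ G) (p : T ⟶ X) :
    f ≫ dot a g p = dot a (f ≫ g) (f ≫ p) := by
  rw [dot, dot, ← Category.assoc, comp_lift]

variable {a} in
theorem existsUnique_dot (ha : NonAbH1.IsPseudoTorsorSch a) {T : Over (Spec (CommRingCat.of k))}
    (p q : T ⟶ X) : ∃! g : T ⟶ G, dot a g p = q :=
  (PrincBundLib.isIso_lift_snd_iff a.act).mp ha T q p

end Action

variable {G : Over (Spec (CommRingCat.of k))} [GrpObj G]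

/-- The Galois action on the points of a group. -/
instance galGroupAction : MulDistribMulAction (𝔾 k) (W k ⟶ G) where
  smul σ g := gal σ ≫ g
  one_smul g := by show gal 1 ≫ g = g; rw [gal_one, Category.id_comp]
  mul_smul σ τ g := by
    show gal (σ * τ) ≫ g = gal σ ≫ gal τ ≫ g
    rw [gal_mul, Category.assoc]
  smul_mul σ g g' := MonObj.comp_mul (gal σ) g g'
  smul_one σ := MonObj.comp_one (gal σ)

theorem smul_def (σ : 𝔾 k) (g : W k ⟶ G) : σ • g = gal σ ≫ g := rfl

variable [Finite k]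

/-- The Frobenius. -/
def frob (k : Type u) [Field k] [Finite k] : 𝔾 k :=
  letI := Fintype.ofFinite k
  FiniteField.frobeniusAlgEquivOfAlgebraic k (AlgebraicClosure k)

theorem frob_apply (x : AlgebraicClosure k) : frob k x = x ^ Nat.card k := by
  letI := Fintype.ofFinite k
  rw [Nat.card_eq_fintype_card]
  exact congrFun (FiniteField.coe_frobeniusAlgEquivOfAlgebraic k (AlgebraicClosure k)) x

/-- The points of `G`, with the twisted conjugation action. -/
@[ext]
structure Tw (G : Over (Spec (CommRingCat.of k))) where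
  v : W k ⟶ G

instance twAction : MulAction (W k ⟶ G) (Tw G) where
  smul h g := ⟨(frob k • h) * g.v * h⁻¹⟩
  one_smul g := Tw.ext (by show (frob k • (1 : W k ⟶ G)) * g.v * 1⁻¹ = g.v; rw [smul_one, inv_one, mul_one, one_mul])
  mul_smul h h' g := Tw.ext (by
    show (frob k • (h * h')) * g.v * (h * h')⁻¹ = (frob k • h) * ((frob k • h') * g.v * h'⁻¹) * h⁻¹
    rw [smul_mul', mul_inv_rev]
    group)

theorem tw_smul_v (h : W k ⟶ G) (g : Tw G) : (h • g).v = (frob k • h) * g.v * h⁻¹ := rfl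

/-- `g` is an invariant of the Frobenius at `p`. -/
def IsInv {X : Over (Spec (CommRingCat.of k))} (a : AlgGrp.Action G X) (g : Tw G) (p : W k ⟶ X) : Prop :=
  gal (frob k) ≫ p = dot a g.v p

section Torsor

variable {X Y : Over (Spec (CommRingCat.of k))} {a : AlgGrp.Action G X} {b : AlgGrp.Action G Y}

theorem gal_dot {g : Tw G} {p : W k ⟶ X} (hp : IsInv a g p) (x : W k ⟶ G) :
    gal (frob k) ≫ dot a x p = dot a ((frob k • x) * g.v) p := by
  rw [comp_dot, hp, dot_mul, smul_def]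

theorem isInv_dot {g : Tw G} {p : W k ⟶ X} (hp : IsInv a g p) (h : W k ⟶ G) :
    IsInv a (h • g) (dot a h p) := by
  rw [IsInv, gal_dot hp, ← dot_mul, tw_smul_v, inv_mul_cancel_right]

theorem eq_smul_of_isInv (ha : NonAbH1.IsPseudoTorsorSch a) {g g' : Tw G} {p p' : W k ⟶ X}
    (hp : IsInv a g p) (hp' : IsInv a g' p') : ∃ h : W k ⟶ G, h • g = g' ∧ dot a h p = p' := by
  obtain ⟨h, rfl, -⟩ := existsUnique_dot ha p p'
  refine ⟨h, Tw.ext ?_, rfl⟩
  exact (existsUnique_dot ha (dot a h p) (gal (frob k) ≫ dot a h p)).unique (isInv_dot hp h).symm hp'.symm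

theorem exists_isInv (ha : NonAbH1.IsPseudoTorsorSch a) (p : W k ⟶ X) : ∃ g : Tw G, IsInv a g p := by
  obtain ⟨g, hg, -⟩ := existsUnique_dot ha p (gal (frob k) ≫ p)
  exact ⟨⟨g⟩, hg.symm⟩

theorem equivIso_dot (e : NonAbH1.EquivIso a b) {T : Over (Spec (CommRingCat.of k))} (g : T ⟶ G)
    (p : T ⟶ X) : dot a g p ≫ e.iso.hom = dot b g (p ≫ e.iso.hom) := by
  rw [dot, dot, Category.assoc, e.comm, lift_whiskerLeft_assoc]

theorem exists_equivIso (hG : FEt.prop G.hom) (hX : FEt.prop X.hom) (hY : FEt.prop Y.hom)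
    (ha : NonAbH1.IsPseudoTorsorSch a) (hb : NonAbH1.IsPseudoTorsorSch b) {g : Tw G} {p : W k ⟶ X}
    {q : W k ⟶ Y} (hp : IsInv a g p) (hq : IsInv b g q) :
    ∃ e : NonAbH1.EquivIso a b, p ≫ e.iso.hom = q := by
  let co : (W k ⟶ X) → (W k ⟶ G) := fun p' => (existsUnique_dot ha p p').choose
  have hco : ∀ p', dot a (co p') p = p' := fun p' => (existsUnique_dot ha p p').choose_spec.1
  have hco' : ∀ x, co (dot a x p) = x := fun x =>
    ((existsUnique_dot ha p (dot a x p)).choose_spec.2 x rfl).symm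
  obtain ⟨f, hf⟩ := exists_hom_frobenius frob_apply hX hY (fun p' => dot b (co p') q) fun p' => by
    conv_lhs => rw [← hco p', gal_dot hp, hco']
    exact (gal_dot hq (co p')).symm
  have hbij : Function.Bijective fun p' : W k ⟶ X => p' ≫ f := by
    refine ⟨fun p₁ p₂ h => ?_, fun q' => ?_⟩
    · have h' : dot b (co p₁) q = dot b (co p₂) q := by rw [← hf, ← hf]; exact h
      have h'' := (existsUnique_dot hb q (dot b (co p₂) q)).unique h' rfl
      rw [← hco p₁, ← hco p₂, h'']
    · obtain ⟨x, hx, -⟩ := existsUnique_dot hb q q'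
      exact ⟨dot a x p, by show dot a x p ≫ f = q'; rw [hf, hco', hx]⟩
  haveI := isIso_of_bijective hX hY f hbij
  have hcomm : a.act ≫ (asIso f).hom = (G ◁ (asIso f).hom) ≫ b.act := by
    refine hom_ext_pts (prop_tensor hG hX) hY fun r => ?_
    obtain ⟨y, p', rfl⟩ : ∃ y p', r = lift y p' := ⟨r ≫ fst _ _, r ≫ snd _ _, by rw [← comp_lift, lift_fst_snd, Category.comp_id]⟩
    simp only [asIso_hom, lift_whiskerLeft_assoc]
    rw [← Category.assoc]
    show dot a y p' ≫ f = dot b y (p' ≫ f)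
    rw [hf, hf, ← dot_mul]
    congr 1
    conv_lhs => rw [← hco p', ← dot_mul, hco']
  refine ⟨⟨asIso f, hcomm⟩, ?_⟩
  show p ≫ f = q
  rw [hf]
  conv_lhs => rw [show co p = 1 from by have := hco' (1 : W k ⟶ G); rwa [dot_one] at this, dot_one]

theorem nat_card_equivIso (hG : FEt.prop G.hom) (hX : FEt.prop X.hom)
    (ha : NonAbH1.IsPseudoTorsorSch a) {g : Tw G} {p : W k ⟶ X} (hp : IsInv a g p) :
    Nat.card (NonAbH1.EquivIso a a) = Nat.card (MulAction.stabilizer (W k ⟶ G) g) := by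
  let F : NonAbH1.EquivIso a a → MulAction.stabilizer (W k ⟶ G) g := fun e =>
    ⟨(existsUnique_dot ha p (p ≫ e.iso.hom)).choose, by
      let h := (existsUnique_dot ha p (p ≫ e.iso.hom)).choose
      have hh : dot a h p = p ≫ e.iso.hom := (existsUnique_dot ha p (p ≫ e.iso.hom)).choose_spec.1
      have h1 : IsInv a g (dot a h p) := by
        show gal (frob k) ≫ dot a h p = dot a g.v (dot a h p)
        rw [hh, ← Category.assoc, hp, equivIso_dot]
      show h • g = g
      exact Tw.ext ((existsUnique_dot ha (dot a h p) (gal (frob k) ≫ dot a h p)).unique (isInv_dot hp h).symm h1.symm)⟩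
  refine Nat.card_congr (Equiv.ofBijective F ⟨fun e e' h => ?_, fun s => ?_⟩)
  · have h0 : p ≫ e.iso.hom = p ≫ e'.iso.hom := by
      rw [← (existsUnique_dot ha p (p ≫ e.iso.hom)).choose_spec.1,
        ← (existsUnique_dot ha p (p ≫ e'.iso.hom)).choose_spec.1]
      exact congrArg (fun x => dot a x p) (congrArg Subtype.val h)
    have h1 : e.iso.hom = e'.iso.hom := hom_ext_pts hX hX fun p' => by
      obtain ⟨x, rfl, -⟩ := existsUnique_dot ha p p'
      rw [equivIso_dot, equivIso_dot, h0]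
    obtain ⟨i, ci⟩ := e
    obtain ⟨i', ci'⟩ := e'
    obtain rfl : i = i' := Iso.ext h1
    rfl
  · obtain ⟨h, hh⟩ := s
    have hh' : h • g = g := hh
    have h1 : IsInv a g (dot a h p) := hh' ▸ isInv_dot hp h
    obtain ⟨e, he⟩ := exists_equivIso hG hX hX ha ha hp h1
    exact ⟨e, Subtype.ext ((existsUnique_dot ha p (p ≫ e.iso.hom)).unique
      (existsUnique_dot ha p (p ≫ e.iso.hom)).choose_spec.1 he.symm)⟩

end Torsor

theorem isOpen_one_cocycle (z : GpH1.OneCocycleLC (𝔾 k) (W k ⟶ G)) : IsOpen {σ | z.1 σ = 1} :=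
  z.2.isOpen_fiber 1

/-- A torsor with prescribed invariant. -/
theorem exists_torsor (hG : FEt.prop G.hom) (g : Tw G) :
    ∃ (X : Over (Spec (CommRingCat.of k))) (a : AlgGrp.Action G X),
      FEt.prop X.hom ∧ NonAbH1.IsPseudoTorsorSch a ∧ ∃ p : W k ⟶ X, IsInv a g p := by
  haveI := finite_pts hG
  obtain ⟨z, hz⟩ := GpLangLib.exists_cocycle (π := frob k) frob_apply (A := W k ⟶ G)
    (fun x => isOpen_stab hG x)
    (fun x => ⟨⊤, Set.toFinite _, trivial, fun _ _ _ => trivial⟩) g.v⁻¹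
  let tw : (𝔾 k) → (W k ⟶ G) → (W k ⟶ G) := fun σ x => (σ • x) * (z.1 σ)⁻¹
  have hz1 : z.1 1 = 1 := by
    have := z.1.2 1 1
    rw [one_smul, one_mul] at this
    exact left_eq_mul.mp this
  have tw_one : ∀ x, tw 1 x = x := fun x => by simp [tw, hz1]
  have tw_mul : ∀ σ τ x, tw (σ * τ) x = tw σ (tw τ x) := fun σ τ x => by
    simp only [tw]
    rw [z.1.2 σ τ, mul_smul, smul_mul', smul_inv', mul_inv_rev, mul_assoc]
  let ρ : (𝔾 k) →* Equiv.Perm (W k ⟶ G) :=
    @MulAction.toPermHom (𝔾 k) (W k ⟶ G) _ { smul := tw, one_smul := tw_one, mul_smul := tw_mul }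
  have hρ : ∀ σ x, ρ σ x = tw σ x := fun σ x => rfl
  obtain ⟨X, hX, e, he⟩ := exists_obj (W k ⟶ G) ρ fun x => by
    let H : Subgroup (𝔾 k) :=
      { carrier := {σ | ρ σ x = x}
        mul_mem' := fun {σ τ} hσ hτ => by
          show ρ (σ * τ) x = x
          rw [map_mul, Equiv.Perm.mul_apply, hτ, hσ]
        one_mem' := by show ρ 1 x = x; rw [map_one]; rfl
        inv_mem' := fun {σ} hσ => by
          show ρ σ⁻¹ x = x
          rw [map_inv, Equiv.Perm.inv_eq_iff_eq]
          exact hσ.symm }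
    show IsOpen (H : Set (𝔾 k))
    have hopen : IsOpen ({σ : 𝔾 k | gal σ ≫ x = x} ∩ {σ | z.1 σ = 1}) :=
      (isOpen_stab hG x).inter (z.2.isOpen_fiber 1)
    refine H.isOpen_of_mem_nhds (g := 1) (Filter.mem_of_superset
      (hopen.mem_nhds ⟨by show gal 1 ≫ x = x; rw [gal_one, Category.id_comp], hz1⟩) fun σ hσ => ?_)
    show tw σ x = x
    have h1 : gal σ ≫ x = x := hσ.1
    have h2 : z.1 σ = 1 := hσ.2
    simp only [tw, h2, inv_one, mul_one]
    exact h1
  have he' : ∀ σ p, e (gal σ ≫ p) = (σ • e p) * (z.1 σ)⁻¹ := fun σ p => (he σ p).trans (hρ σ (e p))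
  let φ : (W k ⟶ G ⊗ X) → (W k ⟶ X) := fun r => e.symm ((r ≫ fst G X) * e (r ≫ snd G X))
  obtain ⟨m, hm⟩ := exists_hom (prop_tensor hG hX) hX φ fun σ r => e.injective (by
    simp only [φ, Category.assoc, Equiv.apply_symm_apply, he', ← smul_def]
    rw [smul_mul', mul_assoc])
  have hm' : ∀ (y : W k ⟶ G) (p : W k ⟶ X), lift y p ≫ m = e.symm (y * e p) := fun y p => by
    rw [hm]; simp only [φ, lift_fst, lift_snd]
  have hU : FEt.prop (𝟙_ (Over (Spec (CommRingCat.of k)))).hom := FEt.prop.id_mem _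
  let a : AlgGrp.Action G X :=
    { act := m
      one_act := hom_ext_pts (prop_tensor hU hX) hX fun r => by
        obtain ⟨y, p, rfl⟩ : ∃ y p, r = lift y p := ⟨r ≫ fst _ _, r ≫ snd _ _, by rw [← comp_lift, lift_fst_snd, Category.comp_id]⟩
        rw [lift_whiskerRight_assoc, lift_leftUnitor_hom, hm']
        have h1 : y ≫ MonObj.one (X := G) = (1 : W k ⟶ G) := by rw [Hom.one_def, toUnit_unique (toUnit _) y]
        rw [h1, one_mul, Equiv.symm_apply_apply]
      mul_act := hom_ext_pts (prop_tensor (prop_tensor hG hG) hX) hX fun r => by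
        obtain ⟨y, p, rfl⟩ : ∃ y p, r = lift y p := ⟨r ≫ fst _ _, r ≫ snd _ _, by rw [← comp_lift, lift_fst_snd, Category.comp_id]⟩
        obtain ⟨y₁, y₂, rfl⟩ : ∃ y₁ y₂, y = lift y₁ y₂ := ⟨y ≫ fst _ _, y ≫ snd _ _, by rw [← comp_lift, lift_fst_snd, Category.comp_id]⟩
        rw [lift_whiskerRight_assoc, lift_lift_associator_hom_assoc, lift_whiskerLeft_assoc, hm', hm', hm']
        rw [Equiv.apply_symm_apply, ← mul_assoc]
        rfl }
  refine ⟨X, a, hX, ?_, e.symm 1, ?_⟩
  · refine isIso_of_bijective (prop_tensor hG hX) (prop_tensor hX hX) _ ⟨fun r r' h => ?_, fun r => ?_⟩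
    · have h' : r ≫ lift m (snd G X) = r' ≫ lift m (snd G X) := h
      have h2 : r ≫ snd G X = r' ≫ snd G X := by simpa using congrArg (fun v => v ≫ snd X X) h'
      have h1 : r ≫ m = r' ≫ m := by simpa using congrArg (fun v => v ≫ fst X X) h'
      rw [hm, hm] at h1
      have h3 := e.symm.injective h1
      rw [h2] at h3
      exact CartesianMonoidalCategory.hom_ext _ _ (mul_right_cancel h3) h2
    · refine ⟨lift (e (r ≫ fst X X) * (e (r ≫ snd X X))⁻¹) (r ≫ snd X X), ?_⟩
      show _ ≫ lift m (snd G X) = r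
      rw [comp_lift, hm', lift_snd, inv_mul_cancel_right, Equiv.symm_apply_apply, ← comp_lift, lift_fst_snd,
        Category.comp_id]
  · refine e.injective ?_
    rw [he', Equiv.apply_symm_apply, smul_one, one_mul, hz, inv_inv]
    show g.v = e (lift g.v (e.symm 1) ≫ m)
    rw [hm', Equiv.apply_symm_apply, Equiv.apply_symm_apply, mul_one]

theorem surjective_hom {X : Over (Spec (CommRingCat.of k))} (x : X.left) : Surjective X.hom :=
  ⟨fun _ => ⟨x, Subsingleton.elim _ _⟩⟩

/-- Topologies on schemes which are fine enough and whose torsors are representable covers. -/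
structure Good (G : Over (Spec (CommRingCat.of k))) [GrpObj G] (K : Precoverage Scheme.{u}) : Prop where
  of_torsor : ∀ {X : Over (Spec (CommRingCat.of k))} (a : AlgGrp.Action G X),
    NonAbH1.IsTorsorFor K a → FEt.prop X.hom ∧ Nonempty (W k ⟶ X)
  locallyTrivial : ∀ {X : Over (Spec (CommRingCat.of k))}, FEt.prop X.hom → Surjective X.hom →
    NonAbH1.IsLocallyTrivialFor K X

theorem good_of_le (hG : FEt.prop G.hom) {K : Precoverage Scheme.{u}} (h₁ : K ≤ Scheme.fpqcPrecoverage)
    (h₂ : Scheme.etalePrecoverage ≤ K) : Good G K where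
  of_torsor {X} a ha := by
    have h' : NonAbH1.IsTorsorFor Scheme.fpqcPrecoverage a :=
      ⟨ha.1, ha.2.imp fun R hR => ⟨h₁ _ hR.1, hR.2⟩⟩
    haveI := FpqcDesc.isFinite_descends.{u}
    have hX : FEt.prop X.hom :=
      ⟨PrincBundLib.property_of_torsor @IsFinite a h' hG.1, PrincBundLib.property_of_torsor @Etale a h' hG.2⟩
    haveI : Surjective X.hom := PrincBundLib.property_of_torsor @Surjective a h'
      (surjective_hom ((MonObj.one (X := G)).left (IsLocalRing.closedPoint k)))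
    obtain ⟨x, -⟩ := Surjective.surj (f := X.hom) (IsLocalRing.closedPoint k)
    exact ⟨hX, nonempty_pts hX x⟩
  locallyTrivial {X} hX hs := by
    refine ⟨Presieve.singleton X.hom, h₂ _ ?_, ?_⟩
    · have h : Presieve.ofArrows (fun _ : PUnit.{1} => X.left) (fun _ => X.hom) ∈
          Scheme.etalePrecoverage.coverings (Spec (CommRingCat.of k)) :=
        (Scheme.ofArrows_mem_precoverage_iff @Etale).mpr
          ⟨fun s => ⟨⟨⟩, Surjective.surj (f := X.hom) s⟩, fun _ => hX.2⟩
      exact (Presieve.ofArrows_pUnit X.hom).subst (motive := fun R => R ∈ _) h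
    · rintro S' f ⟨⟩
      exact ⟨𝟙 _, Category.id_comp _⟩

variable {K : Precoverage Scheme.{u}} (hG : FEt.prop G.hom) (hK : Good G K)

theorem exists_pt (P : NonAbH1.TorsorSch G K) (hK : Good G K) :
    ∃ (g : Tw G) (p : W k ⟶ P.X), IsInv P.act g p := by
  obtain ⟨p⟩ := (hK.of_torsor P.act P.isTorsor).2
  obtain ⟨g, hg⟩ := exists_isInv P.isTorsor.1 p
  exact ⟨g, p, hg⟩

/-- The class of a torsor. -/
def clMap (hK : Good G K) : NonAbH1.H1Sch G K → MulAction.orbitRel.Quotient (W k ⟶ G) (Tw G) :=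
  Quot.lift (fun P => Quotient.mk'' (exists_pt P hK).choose) fun P Q ⟨e⟩ => by
    obtain ⟨p, hp⟩ := (exists_pt P hK).choose_spec
    obtain ⟨q, hq⟩ := (exists_pt Q hK).choose_spec
    have hp' : IsInv Q.act (exists_pt P hK).choose (p ≫ e.iso.hom) := by
      rw [IsInv, ← Category.assoc, hp, equivIso_dot]
    obtain ⟨h, hh, -⟩ := eq_smul_of_isInv Q.isTorsor.1 hp' hq
    exact (Quotient.sound' (show MulAction.orbitRel (W k ⟶ G) (Tw G) _ _ from ⟨h, hh⟩)).symm

theorem clMap_cl (hK : Good G K) (P : NonAbH1.TorsorSch G K) {g : Tw G} {p : W k ⟶ P.X}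
    (hp : IsInv P.act g p) : clMap hK P.cl = Quotient.mk'' g := by
  obtain ⟨q, hq⟩ := (exists_pt P hK).choose_spec
  obtain ⟨h, hh, -⟩ := eq_smul_of_isInv P.isTorsor.1 hp hq
  exact Quotient.sound' (show MulAction.orbitRel (W k ⟶ G) (Tw G) _ _ from ⟨h, hh⟩)

include hG in
theorem clMap_bijective : Function.Bijective (clMap hK) := by
  refine ⟨fun ξ ξ' h => ?_, fun ω => ?_⟩
  · obtain ⟨P, rfl⟩ := Quot.exists_rep ξ
    obtain ⟨Q, rfl⟩ := Quot.exists_rep ξ'
    obtain ⟨g, p, hp⟩ := exists_pt P hK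
    obtain ⟨g', q, hq⟩ := exists_pt Q hK
    have h' : (Quotient.mk'' g : MulAction.orbitRel.Quotient (W k ⟶ G) (Tw G)) = Quotient.mk'' g' :=
      (clMap_cl hK P hp).symm.trans (h.trans (clMap_cl hK Q hq))
    obtain ⟨c, hc⟩ := Quotient.exact' h'
    have hq' : IsInv Q.act g (dot Q.act c q) := (show c • g' = g from hc) ▸ isInv_dot hq c
    obtain ⟨e, -⟩ := exists_equivIso hG (hK.of_torsor P.act P.isTorsor).1 (hK.of_torsor Q.act Q.isTorsor).1
      P.isTorsor.1 Q.isTorsor.1 hp hq'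
    exact Quot.sound ⟨e⟩
  · induction ω using Quotient.inductionOn' with | _ g => ?_
    obtain ⟨X, a, hX, ha, p, hp⟩ := exists_torsor hG g
    have hs : Surjective X.hom := surjective_hom (p.left (IsLocalRing.closedPoint _))
    let P : NonAbH1.TorsorSch G K := ⟨X, a, ha, hK.locallyTrivial hX hs⟩
    exact ⟨P.cl, clMap_cl hK P hp⟩

include hG hK in
/-- The groupoid of torsors has finitely many classes and mass one. -/
theorem finite_and_mass :
    Finite (NonAbH1.H1Sch G K) ∧
      ∑ᶠ ξ : NonAbH1.H1Sch G K,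
        ((Nat.card (NonAbH1.EquivIso (Quot.out ξ).act (Quot.out ξ).act) : ℚ))⁻¹ = 1 := by
  haveI := finite_pts hG
  let eT : Tw G ≃ (W k ⟶ G) := ⟨Tw.v, Tw.mk, fun _ => rfl, fun _ => rfl⟩
  haveI : Finite (Tw G) := Finite.of_equiv _ eT.symm
  let E := Equiv.ofBijective _ (clMap_bijective hG hK)
  haveI : Finite (MulAction.orbitRel.Quotient (W k ⟶ G) (Tw G)) := Finite.of_surjective _ Quotient.mk''_surjective
  refine ⟨Finite.of_equiv _ E.symm, ?_⟩
  have hterm : ∀ ξ : NonAbH1.H1Sch G K,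
      ((Nat.card (NonAbH1.EquivIso (Quot.out ξ).act (Quot.out ξ).act) : ℚ))⁻¹ =
        (Nat.card (E ξ).orbit : ℚ) / Nat.card (W k ⟶ G) := fun ξ => by
    obtain ⟨g, p, hp⟩ := exists_pt (Quot.out ξ) hK
    rw [nat_card_equivIso hG (hK.of_torsor _ (Quot.out ξ).isTorsor).1 (Quot.out ξ).isTorsor.1 hp]
    have hE : E ξ = Quotient.mk'' g := by
      show clMap hK ξ = _
      rw [← clMap_cl hK (Quot.out ξ) hp]
      exact congrArg (clMap hK) (Quot.out_eq ξ).symm
    rw [hE, MulAction.orbitRel.Quotient.orbit_mk]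
    have h := Nat.card_congr (MulAction.orbitProdStabilizerEquivGroup (W k ⟶ G) g)
    rw [Nat.card_prod] at h
    have h0 : (Nat.card (W k ⟶ G) : ℚ) ≠ 0 := Nat.cast_ne_zero.mpr Nat.card_pos.ne'
    have hs : (Nat.card (MulAction.stabilizer (W k ⟶ G) g) : ℚ) ≠ 0 := Nat.cast_ne_zero.mpr Nat.card_pos.ne'
    field_simp
    rw [mul_comm] at h
    exact_mod_cast h.symm
  rw [finsum_congr hterm, finsum_comp_equiv E (f := fun ω => (Nat.card ω.orbit : ℚ) / Nat.card (W k ⟶ G))]
  haveI := Fintype.ofFinite (MulAction.orbitRel.Quotient (W k ⟶ G) (Tw G))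
  rw [finsum_eq_sum_of_fintype, ← Finset.sum_div, ← Nat.cast_sum]
  have h2 := Nat.card_congr (MulAction.selfEquivSigmaOrbits' (W k ⟶ G) (Tw G))
  rw [Nat.card_sigma, Nat.card_congr eT] at h2
  rw [← h2, div_self (Nat.cast_ne_zero.mpr Nat.card_pos.ne')]

end Groth.Agent.FinTorsLib
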