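import Groth.Agent.FEtLib.FieldPi1
import Groth.Agent.GpLangLib.Frobenius
import Groth.Prelude.Def_NonAbH2

/-! Finite etale schemes over a field and their geometric points, inside `Over (Spec k)`. -/

set_option autoImplicit false
set_option backward.isDefEq.respectTransparency false
set_option backward.isDefEq.respectTransparency.types false
universe u
open CategoryTheory CategoryTheory.Limits AlgebraicGeometry MorphismProperty CategoryTheory.PreGaloisCategory
open MonoidalCategory CartesianMonoidalCategory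
open scoped FintypeCatDiscrete
open Groth.Agent.FEtLib Groth.Agent.FEtLib.FieldBase

noncomputable section

namespace Groth.Agent.FinTorsLib

local notation "𝔾" k => Groth.Agent.FEtLib.FieldBase.G k

variable {k : Type u} [Field k]

/-- `Spec k̄` as a scheme over `k`. -/
abbrev W (k : Type u) [Field k] : Over (Spec (CommRingCat.of k)) := Over.mk (ξ k)

/-- An automorphism of `k̄` as a morphism over `k`. -/
def gal (σ : 𝔾 k) : W k ⟶ W k := Over.homMk (galMap σ) (galMap_ξ σ)

theorem gal_mul (σ τ : 𝔾 k) : gal (σ * τ) = gal σ ≫ gal τ :=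
  Over.OverMorphism.ext (galMap_mul σ τ)

theorem gal_one : gal (1 : 𝔾 k) = 𝟙 (W k) := Over.OverMorphism.ext galMap_one

variable {X Y : Over (Spec (CommRingCat.of k))}

/-- The object of the category of covers. -/
abbrev cobj (hX : FEt.prop X.hom) : FEt.Cat (Spec (CommRingCat.of k)) := MorphismProperty.Over.mk ⊤ X.hom hX

theorem smul_eq (hX : FEt.prop X.hom) (σ : 𝔾 k) (p : W k ⟶ X) :
    (σ • (show Fib (ξ k) (cobj hX) from p)) = (show Fib (ξ k) (cobj hX) from gal σ ≫ p) :=
  fib_ext rfl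

theorem finite_pts (hX : FEt.prop X.hom) : Finite (W k ⟶ X) := finite_fib (ξ k) (cobj hX)

theorem isOpen_stab (hX : FEt.prop X.hom) (p : W k ⟶ X) : IsOpen {σ : 𝔾 k | gal σ ≫ p = p} := by
  have h : IsOpen (MulAction.stabilizer (𝔾 k) (show Fib (ξ k) (cobj hX) from p) : Set (𝔾 k)) :=
    FieldBase.isOpen_stabilizer (Y := cobj hX) p
  convert h using 1
  ext σ
  show gal σ ≫ p = p ↔ σ • (show Fib (ξ k) (cobj hX) from p) = p
  rw [smul_eq hX]

theorem hom_ext_pts (hX : FEt.prop X.hom) (hY : FEt.prop Y.hom) {f g : X ⟶ Y}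
    (h : ∀ p : W k ⟶ X, p ≫ f = p ≫ g) : f = g := by
  let f' : cobj hX ⟶ cobj hY := MorphismProperty.Over.homMk f.left (Over.w f)
  let g' : cobj hX ⟶ cobj hY := MorphismProperty.Over.homMk g.left (Over.w g)
  have : f' = g' := (FieldBase.F k).map_injective (FintypeCat.hom_ext _ _ fun p => fib_ext
    (congrArg (fun q : W k ⟶ Y => q.left) (h p)))
  exact Over.OverMorphism.ext (congrArg (fun e : cobj hX ⟶ cobj hY => e.left) this)

theorem exists_hom (hX : FEt.prop X.hom) (hY : FEt.prop Y.hom) (φ : (W k ⟶ X) → (W k ⟶ Y))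
    (hφ : ∀ σ p, φ (gal σ ≫ p) = gal σ ≫ φ p) : ∃ f : X ⟶ Y, ∀ p, p ≫ f = φ p := by
  let m : (functorToAction (FieldBase.F k)).obj (cobj hX) ⟶ (functorToAction (FieldBase.F k)).obj (cobj hY) :=
    { hom := FintypeCat.homMk φ
      comm := fun t => by
        obtain ⟨σ, rfl⟩ := (toAut_bijective (FieldBase.F k) (𝔾 k)).2 t
        refine FintypeCat.hom_ext _ _ fun p => ?_
        show φ ((toAut (FieldBase.F k) (𝔾 k) σ).hom.app (cobj hX) p) =
          (toAut (FieldBase.F k) (𝔾 k) σ).hom.app (cobj hY) (φ p)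
        rw [toAut_hom_app_apply, toAut_hom_app_apply]
        exact ((congrArg φ (smul_eq hX σ p)).trans (hφ σ p)).trans (smul_eq hY σ (φ p)).symm }
  obtain ⟨f, hf⟩ := (functorToAction (FieldBase.F k)).map_surjective m
  refine ⟨Over.homMk f.left (CategoryTheory.Over.w f.hom), fun p => Over.OverMorphism.ext ?_⟩
  have h1 : pmap f (show Fib (ξ k) (cobj hX) from p) = φ p :=
    congrArg (fun a : (functorToAction (FieldBase.F k)).obj (cobj hX) ⟶
      (functorToAction (FieldBase.F k)).obj (cobj hY) => a.hom p) hf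
  exact congrArg (fun q : W k ⟶ Y => q.left) h1

theorem exists_obj (A : Type u) [Finite A] (ρ : (𝔾 k) →* Equiv.Perm A)
    (hcont : ∀ a, IsOpen {σ : 𝔾 k | ρ σ a = a}) :
    ∃ Y : Over (Spec (CommRingCat.of k)), FEt.prop Y.hom ∧
      ∃ e : (W k ⟶ Y) ≃ A, ∀ σ p, e (gal σ ≫ p) = ρ σ (e p) := by
  haveI := Fintype.ofFinite A
  let F := FieldBase.F k
  let t := toAutMulEquiv F (𝔾 k)
  let rho : Aut F →* End (FintypeCat.of A) :=
    { toFun := fun s => FintypeCat.homMk (ρ (t.symm s))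
      map_one' := FintypeCat.hom_ext _ _ fun a => by rw [map_one, map_one]; rfl
      map_mul' := fun s s' => FintypeCat.hom_ext _ _ fun a => by rw [map_mul, map_mul]; rfl }
  let X : Action FintypeCat (Aut F) := ⟨FintypeCat.of A, rho⟩
  have hX : X.IsContinuous := by
    rw [Action.isContinuous_def]
    haveI : DiscreteTopology ((forget₂ (Action FintypeCat.{u} (Aut F)) TopCat).obj X) := ⟨rfl⟩
    refine continuous_prod_of_discrete_right.mpr fun a => ?_
    refine (IsLocallyConstant.iff_isOpen_fiber.mpr fun b => ?_).continuous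
    by_cases hb : ∃ σ₀, ρ σ₀ a = b
    · obtain ⟨σ₀, rfl⟩ := hb
      have hopen : IsOpen ((fun σ : 𝔾 k => σ₀⁻¹ * σ) ⁻¹' {σ | ρ σ a = a}) := (hcont a).preimage (continuous_const_mul _)
      have hto := (toAutHomeo F (𝔾 k)).isOpenMap _ hopen
      convert hto using 1
      ext s
      obtain ⟨σ, rfl⟩ := t.surjective s
      show ρ (t.symm (t σ)) a = ρ σ₀ a ↔ _
      rw [t.symm_apply_apply]
      constructor
      · intro hs
        exact ⟨σ, show ρ (σ₀⁻¹ * σ) a = a by rw [map_mul, Equiv.Perm.mul_apply, hs, map_inv]; exact Equiv.symm_apply_apply _ _, rfl⟩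
      · rintro ⟨τ, hτ, hτσ⟩
        obtain rfl : τ = σ := t.injective hτσ
        have hτ' : ρ (σ₀⁻¹ * τ) a = a := hτ
        rw [map_mul, Equiv.Perm.mul_apply, map_inv, Equiv.Perm.inv_eq_iff_eq] at hτ'
        exact hτ'
    · convert isOpen_empty using 1
      ext s
      simp only [Set.mem_preimage, Set.mem_singleton_iff, Set.mem_empty_iff_false, iff_false]
      exact fun h => hb ⟨t.symm s, h⟩
  let B := (functorToContAction F).objPreimage ⟨X, hX⟩
  let i : (functorToAction F).obj B ≅ X :=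
    (ObjectProperty.ι _).mapIso ((functorToContAction F).objObjPreimageIso ⟨X, hX⟩)
  let e : F.obj B ≃ A := FintypeCat.equivEquivIso.symm ((forget₂ (Action FintypeCat (Aut F)) FintypeCat).mapIso i)
  refine ⟨(MorphismProperty.Over.forget FEt.prop ⊤ _).obj B, B.prop, e, fun σ p => ?_⟩
  have h := congrArg (fun a : F.obj B ⟶ X.V => a p) (i.hom.comm (t σ))
  have h' : i.hom.hom ((t σ).hom.app B p) = ρ (t.symm (t σ)) (i.hom.hom p) := h
  rw [t.symm_apply_apply] at h'
  have h2 : (t σ).hom.app B p = gal σ ≫ p :=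
    fib_ext rfl
  rw [h2] at h'
  exact h'

theorem isIso_of_bijective (hX : FEt.prop X.hom) (hY : FEt.prop Y.hom) (f : X ⟶ Y)
    (h : Function.Bijective fun p : W k ⟶ X => p ≫ f) : IsIso f := by
  let f' : cobj hX ⟶ cobj hY := MorphismProperty.Over.homMk f.left (Over.w f)
  haveI : IsIso ((FieldBase.F k).map f') :=
    (ConcreteCategory.isIso_iff_bijective _).mpr h
  haveI : IsIso f' := isIso_of_reflects_iso f' (FieldBase.F k)
  exact inferInstanceAs (IsIso ((MorphismProperty.Over.forget FEt.prop ⊤ _).map f'))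

theorem prop_tensor (hX : FEt.prop X.hom) (hY : FEt.prop Y.hom) : FEt.prop (X ⊗ Y).hom := by
  show FEt.prop (pullback.fst X.hom Y.hom ≫ X.hom)
  exact FEt.prop.comp_mem _ _ (FEt.prop.pullback_fst _ _ hY) hX

theorem nonempty_pts (hX : FEt.prop X.hom) (x : X.left) : Nonempty (W k ⟶ X) := by
  by_contra hne
  let E : Over (Spec (CommRingCat.of k)) := Over.mk (Scheme.emptyTo _)
  haveI : IsEmpty (E.left) := inferInstanceAs (IsEmpty (∅ : Scheme.{u}))
  have hE : FEt.prop E.hom := by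
    haveI : IsFinite (Scheme.emptyTo (Spec (CommRingCat.of k))) := inferInstance
    haveI : Etale (Scheme.emptyTo (Spec (CommRingCat.of k))) := inferInstance
    exact ⟨inferInstance, inferInstance⟩
  obtain ⟨f, -⟩ := exists_hom hX hE (fun p => absurd ⟨p⟩ hne) fun σ p => absurd ⟨p⟩ hne
  exact IsEmpty.false (f.left x)

section Frobenius

variable [Finite k] {π : 𝔾 k} (hπ : ∀ x : AlgebraicClosure k, π x = x ^ Nat.card k)

include hπ

theorem exists_pow_eq (hX : FEt.prop X.hom) (hY : FEt.prop Y.hom) (σ : 𝔾 k) :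
    ∃ i : ℕ, (∀ p : W k ⟶ X, gal σ ≫ p = gal (π ^ i) ≫ p) ∧ (∀ q : W k ⟶ Y, gal σ ≫ q = gal (π ^ i) ≫ q) := by
  haveI := finite_pts hX
  haveI := finite_pts hY
  let U : Set (𝔾 k) := (⋂ p : W k ⟶ X, {τ | gal τ ≫ p = p}) ∩ ⋂ q : W k ⟶ Y, {τ | gal τ ≫ q = q}
  have hU : IsOpen U := (isOpen_iInter_of_finite fun p => isOpen_stab hX p).inter
    (isOpen_iInter_of_finite fun p => isOpen_stab hY p)
  have h1 : (1 : 𝔾 k) ∈ U := ⟨Set.mem_iInter.mpr fun p => by rw [Set.mem_setOf_eq, gal_one, Category.id_comp],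
    Set.mem_iInter.mpr fun p => by rw [Set.mem_setOf_eq, gal_one, Category.id_comp]⟩
  have hs : IsOpen ((fun τ : 𝔾 k => τ⁻¹ * σ) ⁻¹' U) :=
    hU.preimage (continuous_inv.mul continuous_const)
  obtain ⟨M, hM, hMs⟩ := GpLangLib.exists_lev_subset hπ σ hs
    (show σ⁻¹ * σ ∈ U by rw [inv_mul_cancel]; exact h1)
  obtain ⟨i, hi⟩ := GpLangLib.exists_agree hπ hM σ
  have hu : (π ^ i)⁻¹ * σ ∈ U := hMs M hM dvd_rfl (π ^ i) fun x hx => (hi x hx).symm
  have e : σ = π ^ i * ((π ^ i)⁻¹ * σ) := (mul_inv_cancel_left _ _).symm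
  refine ⟨i, fun p => ?_, fun q => ?_⟩
  · conv_lhs => rw [e, gal_mul, Category.assoc, Set.mem_iInter.mp hu.1 p]
  · conv_lhs => rw [e, gal_mul, Category.assoc, Set.mem_iInter.mp hu.2 q]

theorem equivariant_of_frobenius (hX : FEt.prop X.hom) (hY : FEt.prop Y.hom)
    (φ : (W k ⟶ X) → (W k ⟶ Y)) (hφ : ∀ p, φ (gal π ≫ p) = gal π ≫ φ p) :
    ∀ σ p, φ (gal σ ≫ p) = gal σ ≫ φ p := by
  intro σ p
  obtain ⟨i, hiX, hiY⟩ := exists_pow_eq hπ hX hY σ
  rw [hiX, hiY]
  clear hiX hiY
  induction i generalizing p with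
  | zero => rw [pow_zero, gal_one, Category.id_comp, Category.id_comp]
  | succ n ih => rw [pow_succ, gal_mul, Category.assoc, Category.assoc, ih, hφ]

theorem exists_hom_frobenius (hX : FEt.prop X.hom) (hY : FEt.prop Y.hom)
    (φ : (W k ⟶ X) → (W k ⟶ Y)) (hφ : ∀ p, φ (gal π ≫ p) = gal π ≫ φ p) :
    ∃ f : X ⟶ Y, ∀ p, p ≫ f = φ p :=
  exists_hom hX hY φ (equivariant_of_frobenius hπ hX hY φ hφ)

end Frobenius

end Groth.Agent.FinTorsLib
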